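import Groth.Agent.L27.Principal.Ring
import Groth.Prelude.Def_SGA1t
import Mathlib.AlgebraicGeometry.Morphisms.Affine
import Mathlib.AlgebraicGeometry.Morphisms.Finite

/-!
# Principal covers of an affine scheme are Galois algebras
-/

set_option autoImplicit false
set_option linter.style.haveILetI false

universe u w

open CategoryTheory CategoryTheory.Limits AlgebraicGeometry

namespace Groth.L27.Principal

theorem exists_algebra {A : Type u} [CommRing A] {G : Type w} [Group G]
    (P : FEt.Cat (Spec (CommRingCat.of A))) (ρ : G →* Aut P) (hP : SGA1t.IsPrincipal G P ρ) :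
    ∃ (B : Type u) (_ : CommRing B) (_ : Algebra A B) (_ : MulSemiringAction G B) (_ : SMulCommClass G A B)
      (_ : Algebra.Etale A B) (_ : Module.Finite A B) (_ : Module.FaithfullyFlat A B)
      (e : P.left ≅ Spec (CommRingCat.of B)),
      e.hom ≫ Spec.map (CommRingCat.ofHom (algebraMap A B)) = P.hom ∧
      SimplyTransitive A B G ∧
      ∀ g : G, (ρ g).hom.left ≫ e.hom =
        e.hom ≫ Spec.map (CommRingCat.ofHom (MulSemiringAction.toRingHom G B g⁻¹)) := by
  let π : P.left ⟶ Spec (CommRingCat.of A) := P.hom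
  have hπ : IsFinite π ∧ Etale π := P.prop
  haveI := hπ.1
  haveI := hπ.2
  haveI : IsAffine P.left := isAffine_of_isAffineHom π
  let B : CommRingCat.{u} := Γ(P.left, ⊤)
  let e : P.left ≅ Spec B := P.left.isoSpec
  let φ : CommRingCat.of A ⟶ B := Spec.preimage (e.inv ≫ π)
  have he : e.hom ≫ Spec.map φ = π := by rw [Spec.map_preimage, e.hom_inv_id_assoc]
  letI : Algebra A B := φ.hom.toAlgebra
  let σ : G → (B ⟶ B) := fun g => Spec.preimage (e.inv ≫ (ρ g⁻¹).hom.left ≫ e.hom)
  have hσ : ∀ g, Spec.map (σ g) = e.inv ≫ (ρ g⁻¹).hom.left ≫ e.hom := fun g => Spec.map_preimage _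
  have hσ1 : σ 1 = 𝟙 B := Spec.map_injective (by
    rw [hσ, inv_one, map_one, Spec.map_id]
    show e.inv ≫ (𝟙 P.left : P.left ⟶ P.left) ≫ e.hom = 𝟙 _
    rw [Category.id_comp, e.inv_hom_id])
  have hσm : ∀ g g', σ (g * g') = σ g' ≫ σ g := fun g g' => Spec.map_injective (by
    rw [Spec.map_comp, hσ, hσ, hσ, mul_inv_rev, map_mul]
    show e.inv ≫ ((ρ g⁻¹).hom.left ≫ (ρ g'⁻¹).hom.left) ≫ e.hom = _
    simp)
  have hσA : ∀ g, φ ≫ σ g = φ := fun g => Spec.map_injective (by
    have hw : (ρ g⁻¹).hom.left ≫ π = π := CategoryTheory.Over.w (ρ g⁻¹).hom.hom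
    rw [Spec.map_comp, hσ, Category.assoc, Category.assoc, he, hw, ← he, e.inv_hom_id_assoc])
  letI act : MulSemiringAction G B :=
  { smul := fun g b => (σ g).hom b
    one_smul := fun b => by show (σ 1).hom b = b; rw [hσ1]; rfl
    mul_smul := fun g g' b => by show (σ (g * g')).hom b = (σ g).hom ((σ g').hom b); rw [hσm]; rfl
    smul_zero := fun g => map_zero (σ g).hom
    smul_add := fun g => map_add (σ g).hom
    smul_one := fun g => map_one (σ g).hom
    smul_mul := fun g => map_mul (σ g).hom }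
  have hact : ∀ g, CommRingCat.ofHom (MulSemiringAction.toRingHom G B g) = σ g := fun g => rfl
  haveI : SMulCommClass G A B := ⟨fun g a b => by
    show (σ g).hom (φ.hom a * b) = φ.hom a * (σ g).hom b
    rw [map_mul]
    congr 1
    exact RingHom.congr_fun (congrArg CommRingCat.Hom.hom (hσA g)) a⟩
  have hρe : ∀ g : G, (ρ g).hom.left ≫ e.hom = e.hom ≫ Spec.map (σ g⁻¹) := fun g => by
    rw [hσ, inv_inv, e.hom_inv_id_assoc]
  haveI hf : IsFinite (Spec.map φ) := by
    rw [Spec.map_preimage]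
    infer_instance
  haveI het : Etale (Spec.map φ) := by
    rw [Spec.map_preimage]
    infer_instance
  have hfin : φ.hom.Finite := (IsFinite.SpecMap_iff φ).mp hf
  haveI : Module.Finite A B := hfin
  haveI : Algebra.Etale A B := RingHom.etale_algebraMap.mp
    ((HasRingHomProperty.Spec_iff (P := @Etale)).mp het)
  have hs : Function.Surjective (Spec.map φ) := by
    intro y
    obtain ⟨x, hx⟩ := hP.1 y
    exact ⟨e.hom x, by rw [← Scheme.Hom.comp_apply, he]; exact hx⟩
  haveI : Module.FaithfullyFlat A B := Module.FaithfullyFlat.of_comap_surjective hs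
  refine ⟨B, inferInstance, inferInstance, act, inferInstance, inferInstance, inferInstance, inferInstance,
    e, he, ?_, hρe⟩
  intro Ω _ _ χ ψ hcomp
  have hpt : ∀ χ : (B : Type u) →+* Ω, (Spec.map (CommRingCat.ofHom χ) ≫ e.inv) ≫ π =
      Spec.map (CommRingCat.ofHom (χ.comp φ.hom)) := fun χ => by
    rw [Category.assoc, ← he, e.inv_hom_id_assoc, ← Spec.map_comp]
    rfl
  let ξ := Spec.map (CommRingCat.ofHom (χ.comp φ.hom))
  let s : FEt.fiberObj ξ P := ⟨_, hpt χ⟩
  let t : FEt.fiberObj ξ P := ⟨_, (hpt ψ).trans (congrArg (fun r => Spec.map (CommRingCat.ofHom r))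
    (show ψ.comp φ.hom = χ.comp φ.hom from hcomp.symm))⟩
  obtain ⟨g₀, hg₀, huniq⟩ := hP.2 Ω ξ s t
  have key : ∀ g : G, ((FEt.fiber ξ).map (ρ g).hom s = t) ↔ ∀ b, χ (g⁻¹ • b) = ψ b := by
    intro g
    have hv : ((FEt.fiber ξ).map (ρ g).hom s).1 =
        Spec.map (σ g⁻¹ ≫ CommRingCat.ofHom χ) ≫ e.inv := by
      show (Spec.map (CommRingCat.ofHom χ) ≫ e.inv) ≫ (ρ g).hom.left = _
      rw [← cancel_mono e.hom, Category.assoc, Category.assoc, Category.assoc, hρe, e.inv_hom_id_assoc,
        e.inv_hom_id, Category.comp_id, ← Spec.map_comp]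
    constructor
    · intro hst b
      have h := congrArg Subtype.val hst
      rw [hv, cancel_mono] at h
      exact RingHom.congr_fun (congrArg CommRingCat.Hom.hom (Spec.map_injective h)) b
    · intro hb
      refine Subtype.ext (hv.trans ?_)
      exact congrArg (fun r => Spec.map r ≫ e.inv) (CommRingCat.hom_ext (RingHom.ext hb))
  refine ⟨g₀⁻¹, (key g₀).mp hg₀, fun g hg => ?_⟩
  rw [← inv_eq_iff_eq_inv]
  exact huniq g⁻¹ ((key g⁻¹).mpr fun b => by rw [inv_inv]; exact hg b)

end Groth.L27.Principal
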