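import Groth.Agent.L27.Principal.Ring
import Groth.Prelude.Def_SGA1t
import Mathlib.LinearAlgebra.Vandermonde
import Mathlib.LinearAlgebra.Matrix.NonsingularInverse
import Mathlib.RingTheory.AdjoinRoot
import Mathlib.RingTheory.Ideal.Maps

/-!
# Galois algebras with group `ℤ/p` in characteristic `p` are Artin–Schreier algebras
-/

set_option autoImplicit false
set_option linter.style.haveILetI false

universe u

open TensorProduct Polynomial

namespace Groth.L27.Principal

open Groth.L27.Quot

variable {A B : Type u} [CommRing A] [CommRing B] [Algebra A B]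

/-- The map from the Artin–Schreier algebra given by a root. -/
noncomputable def asHom {p : ℕ} (t : B) (a : A) (ht : t ^ p - t = algebraMap A B a) :
    SGA1t.artinSchreier A p a →ₐ[A] B :=
  Ideal.Quotient.liftₐ _ (aeval t) fun g hg => by
    obtain ⟨q, rfl⟩ := Ideal.mem_span_singleton'.mp hg
    simp [ht]

theorem asHom_mk {p : ℕ} (t : B) (a : A) (ht : t ^ p - t = algebraMap A B a) (q : A[X]) :
    asHom t a ht (Ideal.Quotient.mk _ q) = aeval t q :=
  rfl

variable {p : ℕ} [Fact p.Prime] [CharP A p] [MulSemiringAction (Multiplicative (ZMod p)) B]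
  [SMulCommClass (Multiplicative (ZMod p)) A B]

/-- The image of `j` in `B`. -/
noncomputable def cst (j : ZMod p) : B := algebraMap A B (ZMod.castHom (dvd_refl p) A j)

theorem asHom_shift (t : B) (a : A) (hta : t ^ p - t = algebraMap A B a)
    (ht : ∀ j : ZMod p, Multiplicative.ofAdd j • t = t - cst (A := A) j) (j : ZMod p) :
    (asHom t a hta).toRingHom.comp (SGA1t.artinSchreierShift A p a j) =
      (MulSemiringAction.toRingHom (Multiplicative (ZMod p)) B (Multiplicative.ofAdd j)⁻¹).comp
        (asHom t a hta).toRingHom := by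
  refine Ideal.Quotient.ringHom_ext (Polynomial.ringHom_ext (fun r => ?_) ?_)
  · show asHom t a hta (Ideal.Quotient.mk _ (aeval _ (C r))) =
      (Multiplicative.ofAdd j)⁻¹ • asHom t a hta (Ideal.Quotient.mk _ (C r))
    rw [asHom_mk, asHom_mk, aeval_C, aeval_C, smul_algebraMap]
    exact AlgHom.commutes _ r
  · show asHom t a hta (Ideal.Quotient.mk _ (aeval _ X)) =
      (Multiplicative.ofAdd j)⁻¹ • asHom t a hta (Ideal.Quotient.mk _ X)
    rw [asHom_mk, asHom_mk, aeval_X, aeval_X, map_add, aeval_X, aeval_C, ← ofAdd_neg, ht]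
    simp [cst]

variable [Algebra.FormallyUnramified A B] [Algebra.EssFiniteType A B] [Module.FaithfullyFlat A B]

theorem exists_artinSchreier (p : ℕ) [Fact p.Prime] [CharP A p] [MulSemiringAction (Multiplicative (ZMod p)) B]
    [SMulCommClass (Multiplicative (ZMod p)) A B] (h : SimplyTransitive A B (Multiplicative (ZMod p))) :
    ∃ (t : B) (a : A) (_ : ∀ j : ZMod p, Multiplicative.ofAdd j • t = t - cst (A := A) j)
      (hta : t ^ p - t = algebraMap A B a), Function.Bijective (asHom t a hta) := by
  classical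
  haveI := isInvariant h
  haveI : FaithfulSMul A B := inferInstance
  have hp : p.Prime := Fact.out
  obtain ⟨τ, hτ'⟩ := exists_trace A B (Multiplicative (ZMod p))
  have hτ : ∀ b, algebraMap A B (τ b) = ∑ g : Multiplicative (ZMod p), g • b := fun b => by
    rw [hτ']
    refine Finset.sum_congr (Finset.ext fun g => ?_) fun _ _ => rfl
    simp only [Finset.mem_univ]
  -- the trace is surjective
  obtain ⟨θ, hθ⟩ : ∃ θ, τ θ = 1 := by
    obtain ⟨z, hz⟩ := piMap_surjective h (Pi.single 1 1)
    let I : Ideal A := LinearMap.range τ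
    have key : ∀ w : B ⊗[A] B,
        ∑ g : Multiplicative (ZMod p), piMap A B (Multiplicative (ZMod p)) w g ∈ I.map (algebraMap A B) := by
      intro w
      induction w using TensorProduct.induction_on with
      | zero => simp
      | tmul b c =>
        simp only [piMap_tmul, ← Finset.mul_sum, ← hτ]
        exact Ideal.mul_mem_left _ _ (Ideal.mem_map_of_mem _ ⟨c, rfl⟩)
      | add w w' hw hw' => simp only [map_add, Pi.add_apply, Finset.sum_add_distrib]; exact add_mem hw hw'
    have h1 := key z
    rw [hz, Fintype.sum_pi_single'] at h1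
    have hI : I = ⊤ := by
      rw [← Ideal.comap_map_eq_self_of_faithfullyFlat (B := B) I, Ideal.eq_top_iff_one, Ideal.mem_comap,
        map_one]
      exact h1
    exact (show (1 : A) ∈ I by rw [hI]; trivial)
  let t : B := ∑ i : ZMod p, cst (A := A) i * (Multiplicative.ofAdd i • θ)
  have hsum : ∑ i : ZMod p, Multiplicative.ofAdd i • θ = (1 : B) := by
    rw [← map_one (algebraMap A B), ← hθ, hτ]
    exact Fintype.sum_equiv Multiplicative.ofAdd _ _ fun i => rfl
  have hcst : ∀ (g : Multiplicative (ZMod p)) i, g • cst (A := A) (B := B) i = cst (A := A) i := fun g i =>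
    smul_algebraMap g _
  have ht : ∀ j : ZMod p, Multiplicative.ofAdd j • t = t - cst (A := A) j := by
    intro j
    rw [Finset.smul_sum, ← mul_one (cst (A := A) j), ← hsum, Finset.mul_sum, ← Finset.sum_sub_distrib]
    refine Fintype.sum_equiv (Equiv.addLeft j) _ _ fun i => ?_
    rw [smul_mul', hcst, smul_smul, ← ofAdd_add, Equiv.coe_addLeft, ← sub_mul, cst, cst, cst, ← map_sub,
      ← map_sub, add_sub_cancel_left]
  have hz0 : (p : B) = 0 := by
    rw [← map_natCast (algebraMap A B), CharP.cast_eq_zero, map_zero]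
  have hsub : ∀ (x : B) j, (x - cst (A := A) j) ^ p = x ^ p - cst (A := A) j := by
    intro x j
    rcases subsingleton_or_nontrivial B with _ | _
    · exact Subsingleton.elim _ _
    haveI : CharP B p := charP_of_injective_algebraMap (FaithfulSMul.algebraMap_injective A B) p
    rw [sub_pow_char, cst, ← map_pow, ← map_pow, ZMod.pow_card]
  obtain ⟨a, ha⟩ : ∃ a, algebraMap A B a = t ^ p - t :=
    Algebra.IsInvariant.isInvariant (G := Multiplicative (ZMod p)) _ fun g => by
      rw [smul_sub, smul_pow', ← ofAdd_toAdd g, ht, hsub]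
      abel
  -- differences of conjugates
  have hunit : ∀ j : ZMod p, j ≠ 0 → IsUnit (cst (A := A) (B := B) j) := fun j hj =>
    ((IsUnit.mk0 j hj).map (ZMod.castHom (dvd_refl p) A)).map (algebraMap A B)
  refine ⟨t, a, ht, ha.symm, ⟨?_, ?_⟩⟩
  · -- injectivity
    rw [injective_iff_map_eq_zero]
    intro x hx
    obtain ⟨q, rfl⟩ := Ideal.Quotient.mk_surjective x
    rcases subsingleton_or_nontrivial A with _ | _
    · exact Subsingleton.elim _ _
    let F : A[X] := X ^ p - X - C a
    have hdeg : (X + C a : A[X]).degree < (p : WithBot ℕ) := by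
      rw [degree_X_add_C]; exact_mod_cast hp.one_lt
    have hF : F.Monic := by
      show (X ^ p - X - C a : A[X]).Monic
      rw [sub_sub]
      exact monic_X_pow_sub hdeg
    have hFn : F.natDegree = p := by
      show (X ^ p - X - C a : A[X]).natDegree = p
      rw [sub_sub]
      refine natDegree_eq_of_degree_eq_some ?_
      rw [degree_sub_eq_left_of_degree_lt (by rwa [degree_X_pow]), degree_X_pow]
    let r := q %ₘ F
    have hqr : Ideal.Quotient.mk (Ideal.span {F}) q = Ideal.Quotient.mk (Ideal.span {F}) r := by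
      conv_lhs => rw [← modByMonic_add_div q F]
      rw [map_add, map_mul, Ideal.Quotient.eq_zero_iff_mem.mpr (Ideal.mem_span_singleton_self F), zero_mul,
        add_zero]
    have hrn : r.natDegree < p := by
      have := natDegree_modByMonic_lt q hF (fun e => by rw [e, natDegree_one] at hFn; exact hp.ne_zero hFn.symm)
      rwa [hFn] at this
    have hr0 : aeval t r = 0 := by
      rw [← asHom_mk t a ha.symm, ← hqr]
      exact hx
    rw [hqr]
    suffices r = 0 by rw [this, map_zero]
    let v : Fin p → B := fun i => t - cst (A := A) ((i : ℕ) : ZMod p)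
    let c : Fin p → B := fun k => algebraMap A B (r.coeff k)
    have hdet : IsUnit (Matrix.vandermonde v).det := by
      rw [Matrix.det_vandermonde]
      refine IsUnit.prod_iff.mpr fun i _ => IsUnit.prod_iff.mpr fun j hj => ?_
      have hne : ((i : ℕ) : ZMod p) - ((j : ℕ) : ZMod p) ≠ 0 := by
        rw [sub_ne_zero, Ne, ZMod.natCast_eq_natCast_iff', Nat.mod_eq_of_lt i.2, Nat.mod_eq_of_lt j.2]
        exact fun e => (Finset.mem_Ioi.mp hj).ne (Fin.ext e)
      rw [show v j - v i = cst (A := A) (((i : ℕ) : ZMod p) - ((j : ℕ) : ZMod p)) by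
        simp only [v, cst, map_sub]; abel]
      exact hunit _ hne
    have hv : Matrix.mulVec (Matrix.vandermonde v) c = 0 := by
      funext i
      have h2 := congrArg (fun y => Multiplicative.ofAdd ((i : ℕ) : ZMod p) • y) hr0
      simp only [smul_zero, aeval_eq_sum_range' hrn, Finset.smul_sum] at h2
      refine Eq.trans ?_ h2
      rw [Matrix.mulVec, dotProduct, ← Fin.sum_univ_eq_sum_range
        (fun k => Multiplicative.ofAdd ((i : ℕ) : ZMod p) • (r.coeff k • t ^ k)) p]
      refine Finset.sum_congr rfl fun k _ => ?_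
      rw [Matrix.vandermonde_apply, Algebra.smul_def, smul_mul', smul_algebraMap, smul_pow', ht, mul_comm]
    have hc : c = 0 := Matrix.mulVec_injective_of_isUnit
      ((Matrix.isUnit_iff_isUnit_det _).mpr hdet) (by rw [hv, Matrix.mulVec_zero])
    refine Polynomial.ext fun k => ?_
    rcases lt_or_ge k p with hk | hk
    · exact FaithfulSMul.algebraMap_injective A B ((congrFun hc ⟨k, hk⟩).trans (map_zero _).symm)
    · exact coeff_eq_zero_of_natDegree_lt (hrn.trans_le hk)
  · -- surjectivity
    intro b
    let N : Submodule A B := (asHom t a ha.symm).toLinearMap.range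
    suffices b ∈ N from this
    apply Groth.L27.Torsor.mem_of_one_tmul_mem A B
    have htN : ∀ k, t ^ k ∈ N := fun k => ⟨Ideal.Quotient.mk _ (X ^ k), by
      show asHom t a ha.symm (Ideal.Quotient.mk _ (X ^ k)) = _
      rw [asHom_mk, map_pow, aeval_X]⟩
    let M := LinearMap.range (N.subtype.lTensor B)
    let S : Subalgebra A (B ⊗[A] B) :=
      (Algebra.TensorProduct.map (AlgHom.id A B) (asHom t a ha.symm)).range
    have hSM : ∀ w ∈ S, w ∈ M := by
      rintro _ ⟨w, rfl⟩
      induction w using TensorProduct.induction_on with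
      | zero => simp
      | tmul x y => exact ⟨x ⊗ₜ ⟨_, y, rfl⟩, rfl⟩
      | add w w' hw hw' => rw [map_add]; exact add_mem hw hw'
    have hl : ∀ x : B, (x ⊗ₜ[A] (1 : B)) ∈ S := fun x => ⟨x ⊗ₜ 1, by simp⟩
    have hr : ((1 : B) ⊗ₜ[A] t) ∈ S := ⟨1 ⊗ₜ Ideal.Quotient.mk _ X, by
      show Algebra.TensorProduct.map (AlgHom.id A B) (asHom t a ha.symm) _ = _
      rw [Algebra.TensorProduct.map_tmul, map_one, asHom_mk, aeval_X]⟩
    let d := t ⊗ₜ[A] (1 : B) - (1 : B) ⊗ₜ[A] t
    let e : ZMod p → B ⊗[A] B := fun j => 1 - (d - (cst (A := A) j) ⊗ₜ[A] (1 : B)) ^ (p - 1)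
    have he : ∀ j, e j ∈ S := fun j =>
      sub_mem (one_mem S) (pow_mem (sub_mem (sub_mem (hl t) hr) (hl _)) _)
    have hpi : ∀ j i, piMap A B (Multiplicative (ZMod p)) (e j) (Multiplicative.ofAdd i) =
        if i = j then 1 else 0 := by
      intro j i
      simp only [e, d, map_sub, map_one, map_pow, Pi.sub_apply, Pi.one_apply, Pi.pow_apply, piMap_tmul,
        smul_one, mul_one, one_mul, ht, sub_sub_cancel]
      rw [cst, cst, ← map_sub, ← map_sub, ← map_pow, ← map_pow]
      rcases eq_or_ne i j with rfl | hne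
      · rw [if_pos rfl, sub_self, zero_pow (Nat.sub_ne_zero_of_lt hp.one_lt), map_zero, map_zero, sub_zero]
      · rw [if_neg hne, ZMod.pow_card_sub_one_eq_one (sub_ne_zero.mpr hne), map_one, map_one, sub_self]
    refine hSM _ ?_
    have hb : (1 : B) ⊗ₜ[A] b = ∑ i : ZMod p, ((Multiplicative.ofAdd i • b) ⊗ₜ[A] (1 : B)) * e i := by
      refine piMap_injective h (funext fun g => ?_)
      rw [map_sum, Finset.sum_apply, ← ofAdd_toAdd g, Finset.sum_eq_single (Multiplicative.toAdd g)]
      · rw [map_mul, Pi.mul_apply, hpi, if_pos rfl]; simp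
      · intro i _ hi
        rw [map_mul, Pi.mul_apply, hpi, if_neg (Ne.symm hi), mul_zero]
      · simp
    rw [hb]
    exact sum_mem fun i _ => mul_mem (hl _) (he i)

end Groth.L27.Principal
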