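import Groth.Agent.L27.Principal.Ring
import Groth.Prelude.Def_SGA1t
import Mathlib.RingTheory.RootsOfUnity.PrimitiveRoots
import Mathlib.RingTheory.Nilpotent.Lemmas

/-!
# Galois algebras with group the roots of unity over a local ring are Kummer algebras
-/

set_option autoImplicit false
set_option linter.style.haveILetI false

universe u

open TensorProduct

namespace Groth.L27.Principal

open Groth.L27.Quot

variable {A B : Type u} [CommRing A] [CommRing B] [Algebra A B] {n : ℕ}

/-- The roots of unity, without their scalar action on `A`-modules. -/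
def Mu (A : Type u) [CommRing A] (n : ℕ) : Type u := ↥(rootsOfUnity n A)

instance : CommGroup (Mu A n) := inferInstanceAs (CommGroup ↥(rootsOfUnity n A))

/-- The root of unity as an element of the subgroup. -/
def Mu.coe (g : Mu A n) : ↥(rootsOfUnity n A) := g

/-- The value of a root of unity. -/
def val (g : Mu A n) : A := ((Mu.coe g : Aˣ) : A)

theorem val_mul (g h : (Mu A n)) : val (g * h) = val g * val h := rfl

theorem val_one : val (1 : (Mu A n)) = 1 := rfl

theorem val_pow (g : (Mu A n)) (k : ℕ) : val (g ^ k) = val g ^ k := by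
  induction k with
  | zero => rw [pow_zero, pow_zero, val_one]
  | succ k ih => rw [pow_succ, pow_succ, val_mul, ih]

theorem val_pow_n (g : (Mu A n)) : val g ^ n = 1 := by
  have := congrArg Units.val ((mem_rootsOfUnity n (Mu.coe g : Aˣ)).mp (Mu.coe g).2)
  simpa [val] using this

/-- The map from the Kummer algebra given by a root. -/
noncomputable def kHom (t : B) (a : A) (ht : t ^ n = algebraMap A B a) :
    SGA1t.kummer A (fun _ : Unit => a) (fun _ => n) →ₐ[A] B :=
  Ideal.Quotient.liftₐ _ (MvPolynomial.aeval fun _ => t) (by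
    show ∀ g ∈ Ideal.span _, g ∈ RingHom.ker (MvPolynomial.aeval (R := A) fun _ : Unit => t)
    refine Ideal.span_le.mpr ?_
    rintro _ ⟨i, rfl⟩
    simp [ht])

theorem kHom_mk (t : B) (a : A) (ht : t ^ n = algebraMap A B a) (q : MvPolynomial Unit A) :
    kHom t a ht (Ideal.Quotient.mk _ q) = MvPolynomial.aeval (fun _ => t) q :=
  rfl

variable [MulSemiringAction (Mu A n) B] [SMulCommClass (Mu A n) A B]

theorem kHom_twist (t : B) (a : A) (hta : t ^ n = algebraMap A B a)
    (ht : ∀ g : (Mu A n), g • t = algebraMap A B (val g⁻¹) * t) (ζ : (Mu A n)) :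
    (kHom t a hta).toRingHom.comp (SGA1t.kummerTwist A (fun _ : Unit => a) (fun _ => n) (fun _ => Mu.coe ζ)) =
      (MulSemiringAction.toRingHom (Mu A n) B ζ⁻¹).comp (kHom t a hta).toRingHom := by
  refine Ideal.Quotient.ringHom_ext (MvPolynomial.ringHom_ext (fun r => ?_) fun i => ?_)
  · simp only [RingHom.comp_apply, AlgHom.toRingHom_eq_coe, RingHom.coe_coe, SGA1t.kummerTwist,
      Ideal.Quotient.lift_mk, MulSemiringAction.toRingHom_apply, kHom_mk, MvPolynomial.aeval_C, smul_algebraMap]
    exact AlgHom.commutes _ r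
  · simp only [RingHom.comp_apply, AlgHom.toRingHom_eq_coe, RingHom.coe_coe, SGA1t.kummerTwist,
      Ideal.Quotient.lift_mk, MulSemiringAction.toRingHom_apply, kHom_mk, MvPolynomial.aeval_X, map_mul,
      MvPolynomial.aeval_C, ht, inv_inv]
    rfl

section Roots

variable [IsLocalRing A] (hn1 : 1 ≤ n) (hn : IsUnit ((n : ℕ) : A))

omit [MulSemiringAction (Mu A n) B] [SMulCommClass (Mu A n) A B] [CommRing B] [Algebra A B]

include hn in
theorem isUnit_val_sub_one {g : (Mu A n)} (hg : g ≠ 1) : IsUnit (val g - 1) := by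
  by_contra h
  have hm : IsLocalRing.residue A (val g) = 1 := by
    rw [← sub_eq_zero, ← map_one (IsLocalRing.residue A), ← map_sub, IsLocalRing.residue_eq_zero_iff]
    exact h
  have hs : IsUnit (∑ i ∈ Finset.range n, val g ^ i) := by
    by_contra hs
    have h0 : IsLocalRing.residue A (∑ i ∈ Finset.range n, val g ^ i) = 0 :=
      (IsLocalRing.residue_eq_zero_iff _).mpr hs
    rw [map_sum] at h0
    simp only [map_pow, hm, one_pow, Finset.sum_const, Finset.card_range, nsmul_eq_mul, mul_one] at h0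
    exact ((hn.map (IsLocalRing.residue A)).ne_zero) (by rw [map_natCast]; exact h0)
  have h2 : (∑ i ∈ Finset.range n, val g ^ i) * (val g - 1) = 0 := by
    rw [geom_sum_mul, val_pow_n, sub_self]
  have h3 : val g = 1 := sub_eq_zero.mp (hs.mul_right_eq_zero.mp h2)
  exact hg (Subtype.ext (Units.ext h3))

include hn1 hn in
theorem exists_enum {ζ₀ : A} (hζ₀ : IsPrimitiveRoot ζ₀ n) :
    ∃ g₀ : (Mu A n), orderOf g₀ = n ∧ Function.Bijective fun i : Fin n => g₀ ^ (i : ℕ) := by
  haveI : NeZero n := ⟨by omega⟩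
  let g₀ : Mu A n := hζ₀.toRootsOfUnity
  have hval : val g₀ = ζ₀ := rfl
  have hord : orderOf g₀ = n := by
    show orderOf hζ₀.toRootsOfUnity = n
    rw [← Subgroup.orderOf_coe, ← orderOf_units]
    exact hζ₀.eq_orderOf.symm
  have hres : Function.Injective fun g : (Mu A n) => IsLocalRing.residue A (val g) := by
    intro g h e
    by_contra hne
    have hu : IsUnit (val (g * h⁻¹) - 1) := isUnit_val_sub_one hn fun e' => hne (mul_inv_eq_one.mp e')
    refine (hu.map (IsLocalRing.residue A)).ne_zero ?_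
    have e' : IsLocalRing.residue A (val g) = IsLocalRing.residue A (val h) := e
    rw [map_sub, map_one, val_mul, map_mul, e', ← map_mul, ← val_mul, mul_inv_cancel, val_one, map_one,
      sub_self]
  have hprim : IsPrimitiveRoot (IsLocalRing.residue A ζ₀) n := by
    refine IsPrimitiveRoot.iff_def _ _ |>.mpr ⟨by rw [← map_pow, hζ₀.pow_eq_one, map_one], fun l hl => ?_⟩
    rw [← hord]
    refine orderOf_dvd_of_pow_eq_one (hres ?_)
    show IsLocalRing.residue A (val (g₀ ^ l)) = IsLocalRing.residue A (val 1)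
    rw [val_pow, hval, map_pow, hl, val_one, map_one]
  refine ⟨g₀, hord, fun i j e => ?_, fun g => ?_⟩
  · apply Fin.ext
    exact pow_injOn_Iio_orderOf (x := g₀) (by rw [Set.mem_Iio, hord]; exact i.2)
      (by rw [Set.mem_Iio, hord]; exact j.2) e
  · obtain ⟨i, hi, hgi⟩ := hprim.eq_pow_of_pow_eq_one
      (show IsLocalRing.residue A (val g) ^ n = 1 by rw [← map_pow, val_pow_n, map_one])
    refine ⟨⟨i, hi⟩, hres ?_⟩
    show IsLocalRing.residue A (val (g₀ ^ i)) = IsLocalRing.residue A (val g)
    rw [val_pow, hval, map_pow, hgi]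

include hn in
theorem sum_eq_zero [Fintype (Mu A n)] (ψ : (Mu A n) →* (Mu A n))
    (g₀ : (Mu A n)) (hψ : ψ g₀ ≠ 1) : ∑ g, val (ψ g) = 0 := by
  have h : val (ψ g₀) * ∑ g, val (ψ g) = ∑ g, val (ψ g) := by
    rw [Finset.mul_sum]
    exact Fintype.sum_equiv (Equiv.mulLeft g₀) _ _ fun g => by rw [Equiv.coe_mulLeft, map_mul, val_mul]
  rw [← sub_eq_zero, ← sub_one_mul] at h
  exact (isUnit_val_sub_one hn hψ).mul_right_eq_zero.mp h

end Roots

variable [IsLocalRing A] [Algebra.FormallyUnramified A B] [Algebra.EssFiniteType A B]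
  [Module.FaithfullyFlat A B]

theorem exists_kummer (hn1 : 1 ≤ n) (hn : IsUnit ((n : ℕ) : A)) {ζ₀ : A} (hζ₀ : IsPrimitiveRoot ζ₀ n)
    (h : SimplyTransitive A B (Mu A n)) :
    ∃ (t : B) (a : Aˣ) (_ : ∀ g : (Mu A n), g • t = algebraMap A B (val g⁻¹) * t)
      (hta : t ^ n = algebraMap A B a), Function.Bijective (kHom t (a : A) hta) := by
  classical
  obtain ⟨g₀, hord, hbij⟩ := exists_enum hn1 hn hζ₀
  haveI : Finite (Mu A n) := Finite.of_surjective _ hbij.2
  letI := Fintype.ofFinite (Mu A n)
  haveI := isInvariant h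
  have hinj : Function.Injective (algebraMap A B) := FaithfulSMul.algebraMap_injective A B
  have hcard : Fintype.card (Mu A n) = n := by
    rw [← Fintype.card_of_bijective hbij, Fintype.card_fin]
  -- the projections
  let π : ℕ → B → B := fun k b => ∑ g : Mu A n, algebraMap A B (val g ^ k) * (g • b)
  have hπ : ∀ k b (g' : (Mu A n)), g' • π k b = algebraMap A B (val g'⁻¹ ^ k) * π k b := by
    intro k b g'
    rw [Finset.smul_sum, Finset.mul_sum]
    refine Fintype.sum_equiv (Equiv.mulLeft g') _ _ fun g => ?_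
    rw [smul_mul', smul_algebraMap, smul_smul, Equiv.coe_mulLeft, ← mul_assoc, ← map_mul, ← mul_pow, ← val_mul,
      inv_mul_cancel_left]
  have hfix : ∀ x : B, (∀ g : (Mu A n), g • x = algebraMap A B (val g⁻¹) * x) →
      ∀ g : (Mu A n), g • x ^ n = x ^ n := fun x hx g => by
    rw [smul_pow', hx, mul_pow, ← map_pow, val_pow_n, map_one, one_mul]
  have hπ1 : ∀ b g, g • π 1 b = algebraMap A B (val g⁻¹) * π 1 b := fun b g => by
    simpa only [pow_one] using hπ 1 b g
  choose α hα using fun b =>
    Algebra.IsInvariant.isInvariant (A := A) (G := (Mu A n)) _ (hfix _ (hπ1 b))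
  obtain ⟨c, hc⟩ : ∃ c, IsUnit (α c) := by
    by_contra! hall
    let I : Ideal B := ((IsLocalRing.maximalIdeal A).map (algebraMap A B)).radical
    have hI : ∀ b, π 1 b ∈ I := fun b => ⟨n, by rw [← hα]; exact Ideal.mem_map_of_mem _ (hall b)⟩
    obtain ⟨z, hz⟩ := piMap_surjective h (Pi.single 1 1)
    have key : ∀ w : B ⊗[A] B,
        ∑ g : Mu A n, algebraMap A B (val g ^ 1) * piMap A B (Mu A n) w g ∈ I := by
      intro w
      induction w using TensorProduct.induction_on with
      | zero => simp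
      | tmul b c =>
        rw [show (∑ g, algebraMap A B (val g ^ 1) * piMap A B (Mu A n) (b ⊗ₜ c) g) = b * π 1 c by
          rw [Finset.mul_sum]; exact Finset.sum_congr rfl fun g _ => by rw [piMap_tmul]; ring]
        exact Ideal.mul_mem_left _ _ (hI c)
      | add w w' hw hw' =>
        simp only [map_add, Pi.add_apply, mul_add, Finset.sum_add_distrib]; exact add_mem hw hw'
    have h1 := key z
    rw [hz, Finset.sum_eq_single (1 : (Mu A n))
      (fun g _ hg => by rw [Pi.single_eq_of_ne hg, mul_zero]) (by simp), Pi.single_eq_same, val_one,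
      one_pow, map_one, mul_one] at h1
    obtain ⟨k, hk⟩ := h1
    rw [one_pow, ← map_one (algebraMap A B)] at hk
    have h2 := Ideal.comap_map_eq_self_of_faithfullyFlat (B := B) (IsLocalRing.maximalIdeal A)
    exact (IsLocalRing.maximalIdeal.isMaximal A).ne_top
      ((Ideal.eq_top_iff_one _).mpr (h2 ▸ Ideal.mem_comap.mpr hk))
  let t := π 1 c
  have ht := hπ1 c
  obtain ⟨a, ha⟩ := hc
  have hta : t ^ n = algebraMap A B (a : A) := by rw [ha]; exact (hα c).symm
  obtain ⟨s, hs⟩ : IsUnit t := (isUnit_pow_iff (by omega)).mp (hta ▸ (a.isUnit.map (algebraMap A B)))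
  obtain ⟨m, hm⟩ : IsUnit ((n : ℕ) : B) := by rw [← map_natCast (algebraMap A B)]; exact hn.map _
  -- eigenvectors
  have heig : ∀ k b, ∃ c : A, π k b = algebraMap A B c * t ^ k := by
    intro k b
    have hst : ((s⁻¹ : Bˣ) : B) * t = 1 := by rw [← hs, Units.inv_mul]
    obtain ⟨c, hc⟩ := Algebra.IsInvariant.isInvariant (A := A) (G := (Mu A n))
      (π k b * ((s⁻¹ : Bˣ) : B) ^ k) fun g => by
        have h1 : g • ((s⁻¹ : Bˣ) : B) = algebraMap A B (val g) * ((s⁻¹ : Bˣ) : B) := by
          have h2 : g • ((s⁻¹ : Bˣ) : B) * (algebraMap A B (val g⁻¹) * t) = 1 := by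
            rw [← ht, ← smul_mul', hst, smul_one]
          calc g • ((s⁻¹ : Bˣ) : B)
              = g • ((s⁻¹ : Bˣ) : B) * (algebraMap A B (val g⁻¹) * algebraMap A B (val g)) *
                  (((s⁻¹ : Bˣ) : B) * t) := by
                rw [hst, ← map_mul, ← val_mul, inv_mul_cancel, val_one, map_one, mul_one, mul_one]
            _ = g • ((s⁻¹ : Bˣ) : B) * (algebraMap A B (val g⁻¹) * t) *
                  (algebraMap A B (val g) * ((s⁻¹ : Bˣ) : B)) := by ring
            _ = _ := by rw [h2, one_mul]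
        rw [smul_mul', smul_pow', hπ, h1, mul_pow, ← map_pow, mul_mul_mul_comm, ← map_mul, ← mul_pow, ← val_mul,
          inv_mul_cancel, val_one, one_pow, map_one, one_mul]
    exact ⟨c, by rw [hc, mul_assoc, ← mul_pow, hst, one_pow, mul_one]⟩
  have hsum : ∀ b, ∑ k : Fin n, π k b = (n : B) * b := by
    intro b
    rw [Finset.sum_comm, Finset.sum_eq_single (1 : (Mu A n))]
    · simp [val_one]
    · intro g _ hg
      rw [← Finset.sum_mul, Fin.sum_univ_eq_sum_range (fun k => algebraMap A B (val g ^ k)), ← map_sum]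
      have h0 : ∑ i ∈ Finset.range n, val g ^ i = 0 :=
        (isUnit_val_sub_one hn hg).mul_left_eq_zero.mp (by rw [geom_sum_mul, val_pow_n, sub_self])
      rw [h0, map_zero, zero_mul]
    · simp
  refine ⟨t, a, ht, hta, ⟨?_, fun b => ?_⟩⟩
  · rw [injective_iff_map_eq_zero]
    intro x hx
    let T : SGA1t.kummer A (fun _ : Unit => (a : A)) (fun _ => n) := Ideal.Quotient.mk _ (MvPolynomial.X ())
    let S : Submodule A (SGA1t.kummer A (fun _ : Unit => (a : A)) (fun _ => n)) :=
      Submodule.span A (Set.range fun k : Fin n => T ^ (k : ℕ))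
    have hTn : T ^ n = algebraMap A _ (a : A) := by
      rw [← map_pow]
      exact Ideal.Quotient.eq.mpr (Ideal.subset_span ⟨(), rfl⟩)
    have hS1 : ∀ r, algebraMap A _ r ∈ S := fun r => by
      rw [Algebra.algebraMap_eq_smul_one]
      exact Submodule.smul_mem _ _ (Submodule.subset_span ⟨⟨0, hn1⟩, pow_zero T⟩)
    have hSmul : ∀ y ∈ S, y * T ∈ S := by
      intro y hy
      induction hy using Submodule.span_induction with
      | zero => simp
      | add _ _ _ _ h1 h2 => rw [add_mul]; exact add_mem h1 h2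
      | smul r _ _ h1 => rw [smul_mul_assoc]; exact Submodule.smul_mem _ _ h1
      | mem _ h1 =>
        obtain ⟨k, rfl⟩ := h1
        rw [← pow_succ]
        rcases Nat.lt_or_ge (k.1 + 1) n with hk | hk
        · exact Submodule.subset_span ⟨⟨_, hk⟩, rfl⟩
        · rw [show k.1 + 1 = n by omega, hTn]; exact hS1 _
    have hxS : x ∈ S := by
      obtain ⟨q, rfl⟩ := Ideal.Quotient.mk_surjective x
      clear hx
      induction q using MvPolynomial.induction_on with
      | C r => exact hS1 r
      | add p q hp hq => rw [map_add]; exact add_mem hp hq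
      | mul_X p i hp => rw [map_mul]; exact hSmul _ hp
    obtain ⟨cs, rfl⟩ := (Submodule.mem_span_range_iff_exists_fun A).mp hxS
    have hTt : kHom t (a : A) hta T = t := by rw [kHom_mk, MvPolynomial.aeval_X]
    simp only [map_sum, map_smul, map_pow, hTt] at hx
    refine Finset.sum_eq_zero fun j _ => ?_
    suffices cs j = 0 by rw [this, zero_smul]
    have hj : π j (∑ k : Fin n, cs k • t ^ (k : ℕ)) = (n : B) * (algebraMap A B (cs j) * t ^ (j : ℕ)) := by
      simp only [π, Finset.smul_sum, Finset.mul_sum]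
      rw [Finset.sum_comm, Finset.sum_eq_single j]
      · rw [Finset.sum_congr rfl fun g _ => (?_ :
          algebraMap A B (val g ^ (j : ℕ)) * g • (cs j • t ^ (j : ℕ)) = algebraMap A B (cs j) * t ^ (j : ℕ)),
          Finset.sum_const, Finset.card_univ, hcard, nsmul_eq_mul]
        rw [Algebra.smul_def, smul_mul', smul_algebraMap, smul_pow', ht, mul_pow, ← map_pow]
        calc _ = algebraMap A B (val g ^ (j : ℕ) * val g⁻¹ ^ (j : ℕ)) * (algebraMap A B (cs j) * t ^ (j : ℕ)) := by
              rw [map_mul]; ring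
          _ = _ := by rw [← mul_pow, ← val_mul, mul_inv_cancel, val_one, one_pow, map_one, one_mul]
      · intro k _ hk
        let ψ : (Mu A n) →* (Mu A n) :=
          powMonoidHom (j : ℕ) * (powMonoidHom (k : ℕ))⁻¹
        have hψ : ∀ g, val (ψ g) = val g ^ (j : ℕ) * val g⁻¹ ^ (k : ℕ) := fun g => by
          show val (g ^ (j : ℕ) * (g ^ (k : ℕ))⁻¹) = _
          rw [val_mul, val_pow, ← inv_pow, val_pow]
        rw [Finset.sum_congr rfl fun g _ => (?_ : algebraMap A B (val g ^ (j : ℕ)) * g • (cs k • t ^ (k : ℕ)) =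
          algebraMap A B (val (ψ g)) * (algebraMap A B (cs k) * t ^ (k : ℕ))), ← Finset.sum_mul, ← map_sum,
          sum_eq_zero hn ψ g₀ ?_, map_zero, zero_mul]
        · intro e
          apply hk
          apply Fin.ext
          exact (pow_injOn_Iio_orderOf (x := g₀) (by rw [Set.mem_Iio, hord]; exact j.2)
            (by rw [Set.mem_Iio, hord]; exact k.2) (mul_inv_eq_one.mp e)).symm
        · rw [Algebra.smul_def, smul_mul', smul_algebraMap, smul_pow', ht, mul_pow, ← map_pow, hψ, map_mul]
          ring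
      · simp
    rw [hx] at hj
    have h0 : π j 0 = 0 := by simp [π]
    rw [h0] at hj
    have := (hm ▸ m.isUnit).mul_right_eq_zero.mp hj.symm
    rw [← hs, ← Units.val_pow_eq_pow_val] at this
    exact hinj ((Units.mul_left_eq_zero _).mp this |>.trans (map_zero _).symm)
  · choose cs hcs using fun k : Fin n => heig k b
    obtain ⟨v, hv⟩ := hn
    refine ⟨((v⁻¹ : Aˣ) : A) • ∑ k : Fin n, cs k • (Ideal.Quotient.mk _ (MvPolynomial.X ())) ^ (k : ℕ), ?_⟩
    simp only [map_smul, map_sum, map_pow, kHom_mk, MvPolynomial.aeval_X]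
    simp only [Algebra.smul_def, ← hcs, hsum]
    rw [← mul_assoc, ← map_natCast (algebraMap A B), ← map_mul, ← hv, Units.inv_mul, map_one, one_mul]

end Groth.L27.Principal
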