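import Groth.Agent.L27.Quot.Galois
import Groth.Agent.L27.Torsor.UnitCocycle
import Mathlib.RingTheory.Unramified.Finite
import Mathlib.FieldTheory.IsAlgClosed.AlgebraicClosure
import Mathlib.RingTheory.Flat.FaithfullyFlat.Algebra

/-!
# Actions simply transitive on geometric points: the algebra is Galois
-/

set_option autoImplicit false
set_option linter.style.haveILetI false

universe u w

open TensorProduct

namespace Groth.L27.Principal

open Groth.L27.Quot

variable {A B : Type u} [CommRing A] [CommRing B] [Algebra A B]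
  {G : Type w} [Group G] [MulSemiringAction G B] [SMulCommClass G A B]

variable (A B G) in
/-- The action is simply transitive on geometric points over the base. -/
def SimplyTransitive : Prop :=
  ∀ (Ω : Type u) [Field Ω] [IsAlgClosed Ω] (φ ψ : B →+* Ω),
    φ.comp (algebraMap A B) = ψ.comp (algebraMap A B) → ∃! g : G, ∀ b, φ (g • b) = ψ b

variable (h : SimplyTransitive A B G)

include h in
omit [SMulCommClass G A B] in
theorem span_sub_eq_top (g : G) (hg : g ≠ 1) :
    Ideal.span (Set.range fun b : B => b - g • b) = ⊤ := by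
  by_contra hne
  obtain ⟨m, hm, hle⟩ := Ideal.exists_le_maximal _ hne
  letI : Field (B ⧸ m) := Ideal.Quotient.field m
  let φ : B →+* AlgebraicClosure (B ⧸ m) := (algebraMap (B ⧸ m) _).comp (Ideal.Quotient.mk m)
  refine hg ((h _ φ φ rfl).unique (fun b => ?_) fun b => by rw [one_smul])
  show algebraMap (B ⧸ m) (AlgebraicClosure (B ⧸ m)) (Ideal.Quotient.mk m (g • b)) =
    algebraMap (B ⧸ m) (AlgebraicClosure (B ⧸ m)) (Ideal.Quotient.mk m b)
  congr 1
  exact (Ideal.Quotient.eq.mpr (hle (Ideal.subset_span ⟨b, rfl⟩))).symm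

include h in
omit [SMulCommClass G A B] in
theorem span_smul_sub_eq_top (g g' : G) (hg : g ≠ g') :
    Ideal.span (Set.range fun b : B => g • b - g' • b) = ⊤ := by
  have hne : g'⁻¹ * g ≠ 1 := fun e => hg (inv_mul_eq_one.mp e).symm
  have h1 := span_sub_eq_top h _ hne
  let e := MulSemiringAction.toRingEquiv G B g'
  have h2 : Ideal.map e.toRingHom (Ideal.span (Set.range fun b : B => b - (g'⁻¹ * g) • b)) = ⊤ := by
    rw [h1, Ideal.map_top]
  rw [Ideal.map_span] at h2
  rw [eq_top_iff, ← h2, Ideal.span_le]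
  rintro _ ⟨_, ⟨b, rfl⟩, rfl⟩
  have hb : e.toRingHom (b - (g'⁻¹ * g) • b) = -(g • b - g' • b) := by
    show g' • (b - (g'⁻¹ * g) • b) = _
    rw [smul_sub, smul_smul, mul_inv_cancel_left, neg_sub]
  rw [hb]
  exact neg_mem (Ideal.subset_span ⟨b, rfl⟩)

variable [Finite G] [Algebra.FormallyUnramified A B] [Algebra.EssFiniteType A B]

include h in
theorem piMap_injective : Function.Injective (piMap A B G) := by
  classical
  letI := Fintype.ofFinite G
  let ε := Algebra.FormallyUnramified.elem A B
  let e : G → B ⊗[A] B := fun g =>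
    Algebra.TensorProduct.map (AlgHom.id A B) (MulSemiringAction.toAlgHom A B g⁻¹) ε
  have he : ∀ g (c : B), ((1 : B) ⊗ₜ[A] c) * e g = ((g • c) ⊗ₜ[A] (1 : B)) * e g := fun g c => by
    have := congrArg (Algebra.TensorProduct.map (AlgHom.id A B) (MulSemiringAction.toAlgHom A B g⁻¹))
      (Algebra.FormallyUnramified.one_tmul_mul_elem (R := A) (g • c))
    simpa only [map_mul, Algebra.TensorProduct.map_tmul, AlgHom.coe_id, id_eq, map_one,
      MulSemiringAction.toAlgHom_apply, inv_smul_smul, smul_one] using this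
  have hz : ∀ g (z : B ⊗[A] B), z * e g = (piMap A B G z g ⊗ₜ[A] (1 : B)) * e g := by
    intro g z
    induction z using TensorProduct.induction_on with
    | zero => simp
    | tmul b c =>
      rw [piMap_tmul, show (b ⊗ₜ[A] c : B ⊗[A] B) = (b ⊗ₜ[A] (1 : B)) * ((1 : B) ⊗ₜ[A] c) by simp,
        mul_assoc, he, ← mul_assoc]
      simp
    | add z z' hz hz' => rw [add_mul, hz, hz', map_add, Pi.add_apply, TensorProduct.add_tmul, add_mul]
  have hort : ∀ g g', g ≠ g' → e g * e g' = 0 := by
    intro g g' hgg'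
    let J : Ideal B :=
      { carrier := {c | (c ⊗ₜ[A] (1 : B)) * (e g * e g') = 0}
        add_mem' := fun {x y} hx hy => by
          rw [Set.mem_ofPred_eq, TensorProduct.add_tmul, add_mul, hx, hy, add_zero]
        zero_mem' := by simp
        smul_mem' := fun b x hx => by
          rw [Set.mem_ofPred_eq, smul_eq_mul,
            show ((b * x) ⊗ₜ[A] (1 : B) : B ⊗[A] B) = (b ⊗ₜ 1) * (x ⊗ₜ 1) by simp, mul_assoc,
            (show (x ⊗ₜ[A] (1 : B)) * (e g * e g') = 0 from hx), mul_zero] }
    have hJ : Ideal.span (Set.range fun b : B => g • b - g' • b) ≤ J := by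
      rw [Ideal.span_le]
      rintro _ ⟨c, rfl⟩
      show ((g • c - g' • c) ⊗ₜ[A] (1 : B)) * (e g * e g') = 0
      rw [TensorProduct.sub_tmul, sub_mul, sub_eq_zero, ← mul_assoc, ← he, mul_assoc, mul_comm (e g) (e g'),
        ← mul_assoc, ← mul_assoc, he]
    have h1 : ((1 : B) ⊗ₜ[A] (1 : B)) * (e g * e g') = 0 :=
      hJ (span_smul_sub_eq_top h g g' hgg' ▸ Submodule.mem_top : (1 : B) ∈ _)
    rwa [← Algebra.TensorProduct.one_def, one_mul] at h1
  have hE : IsUnit (∑ g, e g) := by
    by_contra hE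
    obtain ⟨Q, hQ, hmem⟩ := exists_max_ideal_of_mem_nonunits hE
    letI : Field ((B ⊗[A] B) ⧸ Q) := Ideal.Quotient.field Q
    let Ω := AlgebraicClosure ((B ⊗[A] B) ⧸ Q)
    let χ : B ⊗[A] B →+* Ω := (algebraMap _ Ω).comp (Ideal.Quotient.mk Q)
    let φ : B →+* Ω := χ.comp (Algebra.TensorProduct.includeLeft : B →ₐ[A] B ⊗[A] B).toRingHom
    let ψ : B →+* Ω := χ.comp (Algebra.TensorProduct.includeRight : B →ₐ[A] B ⊗[A] B).toRingHom
    obtain ⟨g, hg, -⟩ := h Ω φ ψ (RingHom.ext fun a => by
      show χ (algebraMap A B a ⊗ₜ[A] (1 : B)) = χ ((1 : B) ⊗ₜ[A] algebraMap A B a)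
      rw [← Algebra.TensorProduct.tmul_one_eq_one_tmul])
    have hχ : ∀ z, χ (Algebra.TensorProduct.map (AlgHom.id A B) (MulSemiringAction.toAlgHom A B g⁻¹) z) =
        φ (Algebra.TensorProduct.lmul' A z) := by
      intro z
      induction z using TensorProduct.induction_on with
      | zero => simp
      | tmul b c =>
        simp only [Algebra.TensorProduct.map_tmul, AlgHom.coe_id, id_eq, MulSemiringAction.toAlgHom_apply,
          Algebra.TensorProduct.lmul'_apply_tmul]
        rw [show (b ⊗ₜ[A] (g⁻¹ • c) : B ⊗[A] B) = (b ⊗ₜ[A] (1 : B)) * ((1 : B) ⊗ₜ[A] (g⁻¹ • c)) by simp,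
          map_mul, map_mul]
        show φ b * ψ (g⁻¹ • c) = _
        rw [← hg, smul_inv_smul]
      | add z z' hz hz' => simp only [map_add, hz, hz']
    have h1 : χ (e g) = 1 := by
      rw [hχ, Algebra.FormallyUnramified.lmul_elem, map_one]
    have h0 : ∀ g', g' ≠ g → χ (e g') = 0 := fun g' hne => by
      have := congrArg χ (hort g' g hne)
      rwa [map_mul, h1, mul_one, map_zero] at this
    have : χ (∑ g', e g') = 1 := by
      rw [map_sum, Finset.sum_eq_single g (fun g' _ hne => h0 g' hne) (by simp), h1]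
    rw [show χ (∑ g', e g') = 0 by
      show algebraMap _ Ω (Ideal.Quotient.mk Q _) = 0
      rw [Ideal.Quotient.eq_zero_iff_mem.mpr hmem, map_zero]] at this
    exact zero_ne_one this
  rw [injective_iff_map_eq_zero]
  intro z hz0
  refine (hE.mul_left_eq_zero).mp ?_
  rw [Finset.mul_sum]
  exact Finset.sum_eq_zero fun g _ => by rw [hz g z, hz0]; simp

include h in
omit [Algebra.FormallyUnramified A B] [Algebra.EssFiniteType A B] in
theorem piMap_surjective : Function.Surjective (piMap A B G) := by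
  classical
  letI := Fintype.ofFinite G
  obtain ⟨z, hz1, hz⟩ := exists_separating (A := A) (span_sub_eq_top h)
  intro c
  have key : ∀ g, ∃ w : B ⊗[A] B, piMap A B G w = Pi.single g 1 := fun g => by
    refine ⟨Algebra.TensorProduct.map (AlgHom.id A B) (MulSemiringAction.toAlgHom A B g⁻¹) z, ?_⟩
    have hsh : ∀ (w : B ⊗[A] B) g', piMap A B G
        (Algebra.TensorProduct.map (AlgHom.id A B) (MulSemiringAction.toAlgHom A B g⁻¹) w) g' =
          piMap A B G w (g' * g⁻¹) := by
      intro w g'
      induction w using TensorProduct.induction_on with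
      | zero => simp
      | tmul b c => simp [mul_smul]
      | add w w' hw hw' => simp [hw, hw']
    funext g'
    rw [hsh]
    rcases eq_or_ne g' g with rfl | hne
    · rw [mul_inv_cancel, hz1, Pi.single_eq_same]
    · rw [hz _ fun e => hne (mul_inv_eq_one.mp e), Pi.single_eq_of_ne hne]
  choose w hw using key
  refine ⟨∑ g, (c g ⊗ₜ[A] (1 : B)) * w g, funext fun g' => ?_⟩
  rw [map_sum, Finset.sum_apply, Finset.sum_eq_single g' (fun g _ hne => by
    rw [map_mul, Pi.mul_apply, hw, Pi.single_eq_of_ne (Ne.symm hne), mul_zero]) (by simp),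
    map_mul, Pi.mul_apply, hw, Pi.single_eq_same, mul_one, piMap_tmul, smul_one, mul_one]

variable [Module.FaithfullyFlat A B]

include h in
theorem isInvariant : Algebra.IsInvariant A B G where
  isInvariant b hb := by
    have h1 : (b ⊗ₜ[A] (1 : B)) = (1 : B) ⊗ₜ[A] b := piMap_injective h (funext fun g => by simp [hb g])
    have h2 : b ∈ LinearMap.range (Algebra.linearMap A B) := by
      apply Groth.L27.Torsor.mem_of_one_tmul_mem A B
      rw [← h1]
      exact ⟨b ⊗ₜ ⟨1, ⟨1, (algebraMap A B).map_one⟩⟩, rfl⟩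
    exact h2

end Groth.L27.Principal
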